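import Mathlib
import Cfsg.Prelude.Def_ChevStructure
import Cfsg.Prelude.Def_LieExceptional
import Cfsg.Agent.S0308
import Cfsg.Agent.S0311
import Cfsg.Agent.Lib.Helper5.ChevBNPair
import Cfsg.Agent.Lib.Helper5.ChevBruhat
import Cfsg.Agent.Lib.Helper5.ChevRootSet
import Cfsg.Agent.Lib.Helper5.ChevComm
import Cfsg.Agent.Lib.Helper5.ChevXInj
import Cfsg.Agent.Lib.Helper5.ChevTorusAct

set_option autoImplicit false

/-!
The centraliser of a root element `x_θ(1)` of a Chevalley group, for a root `θ` whose root subgroup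
is centralised by `U` (the highest root; in characteristic two also the highest short root).
-/

namespace Cfsg.Agent.Lib.Helper5.RootCent

open Cfsg Cfsg.Lie Cfsg.Agent.Lib.Helper5.ChevSym Cfsg.Agent.Lib.Helper5.ChevStruct

variable {F : Type*} [Field F]

/-- `t ↦ x_a(t)` is injective -/
theorem x_par_inj (D : ChevalleyDatum) (hD : D ∈ Seven) (a : ℕ) (ha : a < D.nroots) (t u : F)
    (h : D.x F a t = D.x F a u) : t = u := by
  obtain ⟨-, hna, hnea, -⟩ := checkCoPrim_spec D (chkCoPrim_all D hD) a ha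
  obtain ⟨i, hi, hci⟩ := exists_coroot_ne_zero (F := F) D hD a ha
  unfold ChevalleyDatum.x at h
  rw [dif_pos ha, dif_pos ha] at h
  have h1 := xMat_inl_neg D ⟨a, ha⟩ ⟨D.neg a, hna⟩ rfl
    (fun e => hnea (congrArg Fin.val e)) t ⟨i, hi⟩
  have h2 := xMat_inl_neg D ⟨a, ha⟩ ⟨D.neg a, hna⟩ rfl
    (fun e => hnea (congrArg Fin.val e)) u ⟨i, hi⟩
  rw [h, h2] at h1
  exact (mul_left_cancel₀ hci h1).symm

/-- a word all of whose parameters vanish -/
theorem wordMat_zero (D : ChevalleyDatum) (w : List (ℕ × F)) (hw : ∀ p ∈ w, p.2 = 0) :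
    D.wordMat F w = 1 := by
  induction w with
  | nil => simp [ChevalleyDatum.wordMat]
  | cons p w ih =>
    have h1 : D.wordMat F (p :: w) = D.x F p.1 p.2 * D.wordMat F w := by
      simp [ChevalleyDatum.wordMat]
    rw [h1, hw p (List.mem_cons_self ..), x_at_zero, one_mul,
      ih (fun q hq => hw q (List.mem_cons_of_mem _ hq))]

/-- root elements commute when all constants of the commutator formula vanish in `F` -/
theorem x_comm_of_zero (D : ChevalleyDatum) (hD : D ∈ Seven) (θ r : ℕ) (hθ : θ < D.nroots)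
    (hr : r < D.nroots) (h1 : r ≠ θ) (h2 : r ≠ D.neg θ)
    (h0 : ∀ c ∈ D.commTerms θ r, ((c.2.1 : ℤ) : F) = 0) (a u : F) :
    D.x F r u * D.x F θ a = D.x F θ a * D.x F r u := by
  rw [comm_formula D hD θ r hθ hr h1 h2 a u, wordMat_zero, mul_one]
  intro p hp
  unfold ChevalleyDatum.commWord at hp
  rw [List.mem_map] at hp
  obtain ⟨c, hc, rfl⟩ := hp
  show ((c.2.1 : ℤ) : F) * _ * _ = 0
  rw [h0 c hc, zero_mul, zero_mul]

/-- the hypotheses on the root `θ`, the fundamental root `p_{i₀}` not orthogonal to it and the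
list `L` of the negatives of the other fundamental roots -/
structure CentHyp (D : ChevalleyDatum) (F : Type*) [Field F] (θ i₀ : ℕ) (L : List ℕ) : Prop where
  pos : D.IsPosRoot θ
  lt : i₀ < D.rank
  commP : ∀ r, D.IsPosRoot r → r ≠ θ →
    r ≠ D.neg θ ∧ ∀ c ∈ D.commTerms θ r, ((c.2.1 : ℤ) : F) = 0
  commL : ∀ s ∈ L, s < D.nroots ∧ s ≠ θ ∧ s ≠ D.neg θ ∧
    ∀ c ∈ D.commTerms θ s, ((c.2.1 : ℤ) : F) = 0
  refl : D.reflectRoot i₀ θ ≠ θ
  cart : ∀ i < D.rank, D.cartan i θ = if i = i₀ then 1 else 0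
  negL : ∀ i < D.rank, i ≠ i₀ → D.neg (D.simple i) ∈ L

/-- the roots of the subgroup `Q` -/
def rootsQ (D : ChevalleyDatum) (L : List ℕ) : Set ℕ := {r | D.IsPosRoot r ∨ r ∈ L}

/-- the elements `g` with `g x_θ(a) g⁻¹ = x_θ(c a)` for some `c ≠ 0` -/
def normTop (D : ChevalleyDatum) (hD : D ∈ Seven) (F : Type*) [Field F] (θ : ℕ) :
    Subgroup (GL D.Idx F) where
  carrier := {g | ∃ c : F, c ≠ 0 ∧ ∀ a : F, g * xGL D hD θ a * g⁻¹ = xGL D hD θ (c * a)}
  one_mem' := ⟨1, one_ne_zero, fun a => by simp⟩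
  mul_mem' := by
    rintro g g' ⟨c, hc, h⟩ ⟨c', hc', h'⟩
    refine ⟨c * c', mul_ne_zero hc hc', fun a => ?_⟩
    have e : g * g' * xGL D hD θ a * (g * g')⁻¹ = g * (g' * xGL D hD θ a * g'⁻¹) * g⁻¹ := by
      group
    rw [e, h', h, mul_assoc]
  inv_mem' := by
    rintro g ⟨c, hc, h⟩
    refine ⟨c⁻¹, inv_ne_zero hc, fun a => ?_⟩
    have := h (c⁻¹ * a)
    rw [mul_inv_cancel_left₀ hc] at this
    rw [← this]
    group

theorem mem_normTop (D : ChevalleyDatum) (hD : D ∈ Seven) (θ : ℕ) (g : GL D.Idx F) :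
    g ∈ normTop D hD F θ ↔
      ∃ c : F, c ≠ 0 ∧ ∀ a : F, g * xGL D hD θ a * g⁻¹ = xGL D hD θ (c * a) := Iff.rfl

section

variable (D : ChevalleyDatum) (hD : D ∈ Seven) (θ i₀ : ℕ) (L : List ℕ) (H : CentHyp D F θ i₀ L)

include hD H

theorem gen_comm (r : ℕ) (hr : r ∈ rootsQ D L) (u a : F) :
    Commute (xGL D hD r u) (xGL D hD θ a) := by
  apply Units.ext
  rw [Units.val_mul, Units.val_mul, xGL_val, xGL_val]
  by_cases e : r = θ
  · subst e
    rw [x_add D hD, x_add D hD, add_comm]
  · rcases hr with hr | hr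
    · obtain ⟨h2, h0⟩ := H.commP r hr e
      exact x_comm_of_zero D hD θ r H.pos.1 hr.1 e h2 h0 a u
    · obtain ⟨h1, _, h2, h0⟩ := H.commL r hr
      exact x_comm_of_zero D hD θ r H.pos.1 h1 e h2 h0 a u

/-- `Q` centralises `X_θ` -/
theorem Q_comm (g : GL D.Idx F) (hg : g ∈ rootSetSub D F (rootsQ D L)) (a : F) :
    Commute g (xGL D hD θ a) := by
  unfold rootSetSub at hg
  induction hg using Subgroup.closure_induction with
  | mem y hy =>
    obtain ⟨s, u, hs, hy⟩ := hy
    have : y = xGL D hD s u := Units.ext hy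
    rw [this]
    exact gen_comm D hD θ i₀ L H s hs u a
  | one => exact Commute.one_left _
  | mul x y _ _ hx hy => exact Commute.mul_left hx hy
  | inv x _ hx => exact Commute.inv_left hx

theorem pos_le_Q : D.posUnipotent F ≤ rootSetSub D F (rootsQ D L) := by
  unfold ChevalleyDatum.posUnipotent rootSetSub
  apply Subgroup.closure_mono
  rintro g ⟨r, t, hr, hg⟩
  exact ⟨r, t, Or.inl hr, hg⟩

/-- the right hand side of the statements is `Q` -/
theorem rhs_eq :
    D.posUnipotent F ⊔ Subgroup.closure {g : GL D.Idx F | ∃ s ∈ L, ∃ c : F,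
      (g : Matrix D.Idx D.Idx F) = D.x F s c} = rootSetSub D F (rootsQ D L) := by
  apply le_antisymm
  · apply sup_le (pos_le_Q D hD θ i₀ L H)
    unfold rootSetSub
    apply Subgroup.closure_mono
    rintro g ⟨s, hs, c, hg⟩
    exact ⟨s, c, Or.inr hs, hg⟩
  · unfold rootSetSub
    rw [Subgroup.closure_le]
    rintro g ⟨s, c, hs, hg⟩
    rcases hs with hs | hs
    · apply Subgroup.mem_sup_left
      exact Subgroup.subset_closure ⟨s, c, hs, hg⟩
    · apply Subgroup.mem_sup_right
      exact Subgroup.subset_closure ⟨s, hs, c, hg⟩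

theorem Q_le_group : rootSetSub D F (rootsQ D L) ≤ D.group F := by
  unfold rootSetSub
  rw [Subgroup.closure_le]
  rintro g ⟨s, c, -, hg⟩
  have : g = xGL D hD s c := Units.ext hg
  rw [this]
  exact xGL_mem_group D hD s c

theorem pos_le_normTop : D.posUnipotent F ≤ normTop D hD F θ := by
  intro u hu
  refine ⟨1, one_ne_zero, fun a => ?_⟩
  have := Q_comm D hD θ i₀ L H u (pos_le_Q D hD θ i₀ L H hu) a
  rw [this.eq, mul_inv_cancel_right, one_mul]

omit H in
theorem diagonal_le_normTop : D.diagonalSubgroup F ≤ normTop D hD F θ := by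
  intro h hh
  obtain ⟨c, hc, hval⟩ := exists_torusMat_of_mem D hD h hh
  refine ⟨chi D c θ, chi_ne_zero D c hc θ, fun a => ?_⟩
  apply Units.ext
  rw [torus_conj_x D hD h _ c hc hval θ a (xGL_val D hD θ a), xGL_val]

theorem borel_le_normTop : D.borelSubgroup F ≤ normTop D hD F θ := by
  unfold ChevalleyDatum.borelSubgroup
  exact sup_le (pos_le_normTop D hD θ i₀ L H) (diagonal_le_normTop D hD θ)

omit H in
/-- `n_w ∈ normTop` as soon as `w θ = θ` -/
theorem wGL_mem_normTop (hθ : θ < D.nroots) (w : List ℕ) (hw : ∀ i ∈ w, i < D.rank)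
    (h : wAct D w θ = θ) : (wGL D hD w : GL D.Idx F) ∈ normTop D hD F θ := by
  obtain ⟨ε, hε, hconj⟩ := wGL_conj (F := F) D hD w hw θ hθ
  refine ⟨ε, ?_, fun a => ?_⟩
  · rcases hε with rfl | rfl
    · exact one_ne_zero
    · exact neg_ne_zero.2 one_ne_zero
  · apply Units.ext
    rw [hconj a _ (xGL_val D hD θ a), h, xGL_val]

/-- the centraliser of `x_θ(1)` lies in `normTop` -/
theorem cent_le_normTop (g : GL D.Idx F) (hg : g ∈ D.group F)
    (hc : Commute g (xGL D hD θ 1)) : g ∈ normTop D hD F θ := by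
  obtain ⟨n, hn, hmem⟩ := Cfsg.Agent.S0308.result (chevBNPair D hD F) ⟨g, hg⟩
  rw [DoubleCoset.mem_doubleCoset] at hmem
  obtain ⟨b1, hb1, b2, hb2, e⟩ := hmem
  have hn' : (n : GL D.Idx F) ∈ D.monomialSubgroup F := hn
  have hb1' : (b1 : GL D.Idx F) ∈ D.borelSubgroup F := hb1
  have hb2' : (b2 : GL D.Idx F) ∈ D.borelSubgroup F := hb2
  have e' : g = (b1 : GL D.Idx F) * (n : GL D.Idx F) * (b2 : GL D.Idx F) :=
    congrArg Subtype.val e
  obtain ⟨w, hw, h', hh', e3⟩ := exists_word_of_mem_monomial D hD _ hn'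
  have hB := borel_le_normTop D hD θ i₀ L H
  have h1 := hB hb1'
  have h2 : h' * (b2 : GL D.Idx F) ∈ normTop D hD F θ :=
    mul_mem (hB (diagonal_le_borel D hh')) (hB hb2')
  have eg : g = (b1 : GL D.Idx F) * wGL D hD w * (h' * (b2 : GL D.Idx F)) := by
    rw [e', e3]; group
  suffices hwm : (wGL D hD w : GL D.Idx F) ∈ normTop D hD F θ by
    rw [eg]
    exact mul_mem (mul_mem h1 hwm) h2
  apply wGL_mem_normTop D hD θ H.pos.1 w hw
  obtain ⟨c1, hc1, k1⟩ := inv_mem h1
  obtain ⟨c2, hc2, k2⟩ := h2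
  obtain ⟨ε, hε, hconj⟩ := wGL_conj (F := F) D hD w hw θ H.pos.1
  have hε0 : ε ≠ 0 := by
    rcases hε with rfl | rfl
    · exact one_ne_zero
    · exact neg_ne_zero.2 one_ne_zero
  -- `n_w (b₂' t b₂'⁻¹) n_w⁻¹ = b₁⁻¹ t b₁`
  have key : wGL D hD w * (h' * (b2 : GL D.Idx F) * xGL D hD θ 1 * (h' * (b2 : GL D.Idx F))⁻¹)
      * (wGL D hD w)⁻¹
      = (b1 : GL D.Idx F)⁻¹ * xGL D hD θ 1 * ((b1 : GL D.Idx F)⁻¹)⁻¹ := by
    have : xGL D hD θ (1 : F) = g * xGL D hD θ 1 * g⁻¹ := by
      rw [hc.eq, mul_inv_cancel_right]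
    conv_rhs => rw [this, eg]
    group
  rw [k2, k1] at key
  have key' := congrArg Units.val key
  rw [hconj _ _ (xGL_val D hD θ _), xGL_val] at key'
  exact x_root_inj D hD _ _ (wAct_lt D hD w hw θ H.pos.1) H.pos.1 _ _
    (mul_ne_zero hε0 (mul_ne_zero hc2 one_ne_zero)) key'

omit H in
/-- `H` normalises `Q` -/
theorem diagonal_le_normalizer_Q :
    D.diagonalSubgroup F ≤ Subgroup.normalizer (rootSetSub D F (rootsQ D L) : Set (GL D.Idx F)) := by
  intro h hh
  rw [Subgroup.mem_normalizer_iff]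
  intro g
  constructor
  · exact diag_conj_mem_rootSetSub D hD _ h hh g
  · intro hg
    have := diag_conj_mem_rootSetSub D hD _ h⁻¹ (inv_mem hh) _ hg
    have e : h⁻¹ * (h * g * h⁻¹) * h⁻¹⁻¹ = g := by group
    rwa [e] at this

/-- the fundamental reflections in `normTop` lie in `Q` -/
theorem nGL_mem_Q (i : ℕ) (hi : i < D.rank) (hm : (nGL D hD i : GL D.Idx F) ∈ normTop D hD F θ) :
    (nGL D hD i : GL D.Idx F) ∈ rootSetSub D F (rootsQ D L) := by
  obtain ⟨c, hc, k⟩ := hm
  have k1 := congrArg Units.val (k 1)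
  rw [nGL_conj D hD i hi θ H.pos.1 1 _ (xGL_val D hD θ 1), xGL_val] at k1
  have hη : ((eta D i θ : ℤ) : F) * 1 ≠ 0 := by
    rw [mul_one]
    intro h0
    have := eta_cast_sq (F := F) D hD i hi θ H.pos.1
    rw [h0, zero_mul] at this
    exact zero_ne_one this
  have hrefl := x_root_inj D hD _ _ (reflectRoot_invol D hD i hi θ H.pos.1).1 H.pos.1 _ _ hη k1
  have hi0 : i ≠ i₀ := by
    rintro rfl
    exact H.refl hrefl
  have hneg := H.negL i hi hi0
  have hpos : D.IsPosRoot (D.simple i) := (checkUp_spec D i (chkUp_all D hD i hi)).1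
  unfold nGL
  apply wordGL_mem_rootSetSub D hD
  intro q hq
  unfold ChevalleyDatum.nWord at hq
  simp only [List.mem_cons, List.not_mem_nil, or_false] at hq
  rcases hq with rfl | rfl | rfl
  · exact Or.inl hpos
  · exact Or.inr hneg
  · exact Or.inl hpos

/-- `normTop ∩ G ≤ Q H` -/
theorem normTop_le (g : GL D.Idx F) (hg : g ∈ D.group F) (hm : g ∈ normTop D hD F θ) :
    g ∈ rootSetSub D F (rootsQ D L) ⊔ D.diagonalSubgroup F := by
  set P := chevBNPair D hD F with hP
  set M : Subgroup ↥(D.group F) := (normTop D hD F θ).subgroupOf (D.group F) with hMdef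
  have hBM : P.B ≤ M := by
    intro x hx
    exact borel_le_normTop D hD θ i₀ L H hx
  obtain ⟨J, hJ, hMJ⟩ := Cfsg.Agent.S0311.result P M hBM
  have hle : M ≤ (rootSetSub D F (rootsQ D L) ⊔ D.diagonalSubgroup F).subgroupOf (D.group F) := by
    rw [hMJ]
    unfold BNPair.parabolic
    apply sup_le
    · intro x hx
      have hx' : (x : GL D.Idx F) ∈ D.borelSubgroup F := hx
      unfold ChevalleyDatum.borelSubgroup at hx'
      exact sup_le_sup_right (pos_le_Q D hD θ i₀ L H) _ hx'
    · rw [Subgroup.closure_le]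
      intro s hs
      have hsM : s ∈ M := by
        rw [hMJ]
        unfold BNPair.parabolic
        exact Subgroup.mem_sup_right (Subgroup.subset_closure hs)
      obtain ⟨i, hi, hval⟩ := hJ hs
      have es : (s : GL D.Idx F) = nGL D hD i := Units.ext (by rw [hval, nGL_val])
      have hsM' : (s : GL D.Idx F) ∈ normTop D hD F θ := hsM
      rw [es] at hsM'
      show (s : GL D.Idx F) ∈ (rootSetSub D F (rootsQ D L) ⊔ D.diagonalSubgroup F :
        Subgroup (GL D.Idx F))
      rw [es]
      exact Subgroup.mem_sup_left (nGL_mem_Q D hD θ i₀ L H i hi hsM')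
  have hgM : (⟨g, hg⟩ : ↥(D.group F)) ∈ M := hm
  exact hle hgM

/-- the part of `H` centralising `x_θ(1)` lies in `Q` -/
theorem diag_cent_mem_Q (h : GL D.Idx F) (hh : h ∈ D.diagonalSubgroup F)
    (hc : Commute h (xGL D hD θ 1)) : h ∈ rootSetSub D F (rootsQ D L) := by
  obtain ⟨c, hc0, hval⟩ := exists_torusMat_of_mem D hD h hh
  -- `χ(θ) = 1`
  have h1 : chi D c θ = 1 := by
    have k := torus_conj_x D hD h _ c hc0 hval θ 1 (xGL_val D hD θ 1)
    rw [hc.eq, mul_inv_cancel_right, xGL_val, mul_one] at k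
    exact (x_par_inj D hD θ H.pos.1 _ _ k).symm
  have h2 : chi D c θ = c i₀ := by
    unfold chi
    have : ((List.range D.rank).map fun i => (c i) ^ (D.cartan i θ))
        = (List.range D.rank).map fun j => (if j = i₀ then c i₀ else 1) ^ ((fun _ => (1 : ℤ)) j) := by
      apply List.map_congr_left
      intro i hi
      rw [H.cart i (List.mem_range.1 hi)]
      by_cases e : i = i₀
      · rw [if_pos e, if_pos e, e]
      · rw [if_neg e, if_neg e, zpow_zero, one_zpow]
    rw [this, prod_single i₀ (c i₀) (fun _ => (1 : ℤ)) D.rank, if_pos H.lt, zpow_one]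
  have hci : c i₀ = 1 := by rw [← h2, h1]
  -- build up `h` from the `h_{p_i}(c_i)`
  have key : ∀ k ≤ D.rank, ∀ g : GL D.Idx F,
      (g : Matrix D.Idx D.Idx F) = torusMat D (fun i => if i < k then c i else 1) →
      g ∈ rootSetSub D F (rootsQ D L) := by
    intro k
    induction k with
    | zero =>
      intro _ g hg
      have : g = 1 := by
        apply Units.ext
        rw [hg, Units.val_one]
        simp only [Nat.not_lt_zero, if_false]
        exact torusMat_one D
      rw [this]
      exact one_mem _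
    | succ k ih =>
      intro hk g hg
      have hk' : k < D.rank := hk
      by_cases ek : k = i₀
      · apply ih (by omega) g
        rw [hg]
        congr 1
        funext i
        by_cases h1 : i < k
        · rw [if_pos h1, if_pos (by omega)]
        · by_cases h3 : i = k
          · rw [if_neg h1, if_pos (by omega), h3, ek, hci]
          · rw [if_neg h1, if_neg (by omega)]
      · set g₁ : GL D.Idx F := wordGL D hD (D.hWord (D.simple k) (c k)) with hg₁
        have hg₁v : (g₁ : Matrix D.Idx D.Idx F) = D.hMat F (D.simple k) (c k) := by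
          rw [hg₁, wordGL_val]; rfl
        have hpos : D.IsPosRoot (D.simple k) := (checkUp_spec D k (chkUp_all D hD k hk')).1
        have hneg := H.negL k hk' ek
        have hg₁m : g₁ ∈ rootSetSub D F (rootsQ D L) := by
          apply wordGL_mem_rootSetSub D hD
          intro q hq
          unfold ChevalleyDatum.hWord ChevalleyDatum.nWord at hq
          simp only [List.cons_append, List.nil_append, List.mem_cons, List.not_mem_nil,
            or_false] at hq
          rcases hq with rfl | rfl | rfl | rfl | rfl | rfl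
          · exact Or.inl hpos
          · exact Or.inr hneg
          · exact Or.inl hpos
          · exact Or.inl hpos
          · exact Or.inr hneg
          · exact Or.inl hpos
        have hsplit : torusMat D (fun i => if i < k + 1 then c i else 1)
            = torusMat D (fun i => if i < k then c i else 1) * D.hMat F (D.simple k) (c k) := by
          rw [hMat_simple_eq_torusMat D hD k hk' (c k) (hc0 k), torusMat_mul]
          congr 1
          funext i
          by_cases h1 : i < k
          · have h2 : i < k + 1 := by omega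
            have h3 : ¬ i = k := by omega
            rw [if_pos h1, if_pos h2, if_neg h3, mul_one]
          · by_cases h3 : i = k
            · have h2 : i < k + 1 := by omega
              rw [if_neg h1, if_pos h2, if_pos h3, one_mul, h3]
            · have h2 : ¬ i < k + 1 := by omega
              rw [if_neg h1, if_neg h2, if_neg h3, one_mul]
        have h0 : ((g * g₁⁻¹ : GL D.Idx F) : Matrix D.Idx D.Idx F)
            = torusMat D (fun i => if i < k then c i else 1) := by
          have e1 : ((g * g₁⁻¹ : GL D.Idx F) : Matrix D.Idx D.Idx F)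
                * (g₁ : Matrix D.Idx D.Idx F)
              = torusMat D (fun i => if i < k then c i else 1) * (g₁ : Matrix D.Idx D.Idx F) := by
            rw [← Units.val_mul, inv_mul_cancel_right, hg, hsplit, hg₁v]
          have e2 := congrArg (fun M => M * ((g₁⁻¹ : GL D.Idx F) : Matrix D.Idx D.Idx F)) e1
          simp only [mul_assoc] at e2
          rwa [← Units.val_mul, mul_inv_cancel, Units.val_one, mul_one, mul_one] at e2
        have := ih (by omega) _ h0
        have e : g = (g * g₁⁻¹) * g₁ := by group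
        rw [e]
        exact mul_mem this hg₁m
  apply key D.rank (le_refl _) h
  rw [hval]
  unfold torusMat
  congr 1
  funext j
  rcases j with j | s
  · rfl
  · simp only [Sum.elim_inr]
    apply chi_congr
    intro i hi
    rw [if_pos hi]

/-- the centraliser of `x_θ(1)` -/
theorem cent_eq (t : GL D.Idx F) (ht : (t : Matrix D.Idx D.Idx F) = D.x F θ 1) :
    D.group F ⊓ Subgroup.centralizer {t} = D.posUnipotent F ⊔ Subgroup.closure
      {g : GL D.Idx F | ∃ s ∈ L, ∃ c : F, (g : Matrix D.Idx D.Idx F) = D.x F s c} := by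
  have et : t = xGL D hD θ 1 := Units.ext ht
  rw [rhs_eq D hD θ i₀ L H]
  apply le_antisymm
  · rintro g ⟨hg, hc⟩
    have hc' : Commute g (xGL D hD θ 1) := by
      rw [← et]
      exact (Subgroup.mem_centralizer_iff.1 hc t rfl).symm
    have hm := cent_le_normTop D hD θ i₀ L H g hg hc'
    have hQH := normTop_le D hD θ i₀ L H g hg hm
    have hQH' : g ∈ ((rootSetSub D F (rootsQ D L) ⊔ D.diagonalSubgroup F :
        Subgroup (GL D.Idx F)) : Set (GL D.Idx F)) := hQH
    rw [Subgroup.coe_mul_of_right_le_normalizer_left _ _ (diagonal_le_normalizer_Q D hD L)] at hQH'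
    obtain ⟨q, hq, h, hh, e⟩ := Set.mem_mul.1 hQH'
    have hqc := Q_comm D hD θ i₀ L H q hq 1
    have hhc : Commute h (xGL D hD θ 1) := by
      have eh : h = q⁻¹ * g := by rw [← e]; group
      rw [eh]
      exact Commute.mul_left (Commute.inv_left hqc) hc'
    rw [← e]
    exact mul_mem hq (diag_cent_mem_Q D hD θ i₀ L H h hh hhc)
  · intro g hg
    refine ⟨Q_le_group D hD θ i₀ L H hg, ?_⟩
    show g ∈ Subgroup.centralizer {t}
    rw [Subgroup.mem_centralizer_iff]
    intro y hy
    rw [Set.mem_singleton_iff.1 hy, et]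
    exact (Q_comm D hD θ i₀ L H g hg 1).eq.symm

end

end Cfsg.Agent.Lib.Helper5.RootCent
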