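import Mathlib
import Cfsg.Prelude.Def_ChevStructure
import Cfsg.Prelude.Def_LieChev
import Cfsg.Agent.Lib.Helper5.RootCent.Main

set_option autoImplicit false

/-!
A Boolean check of the hypotheses `CentHyp`.
-/

namespace Cfsg.Agent.Lib.Helper5.RootCent

open Cfsg Cfsg.Lie Cfsg.Agent.Lib.Helper5.ChevSym Cfsg.Agent.Lib.Helper5.ChevStruct

variable {F : Type*} [Field F]

/-- all constants of the commutator formula for `(θ, r)` are divisible by `p` -/
def commZero (D : ChevalleyDatum) (p θ r : ℕ) : Bool :=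
  (D.commTerms θ r).all fun c => c.2.1 % (p : ℤ) == 0

theorem commZero_spec (D : ChevalleyDatum) (p : ℕ) [CharP F p] (θ r : ℕ)
    (h : commZero D p θ r = true) : ∀ c ∈ D.commTerms θ r, ((c.2.1 : ℤ) : F) = 0 := by
  intro c hc
  unfold commZero at h
  rw [List.all_eq_true] at h
  have h1 := h c hc
  rw [beq_iff_eq] at h1
  exact (CharP.intCast_eq_zero_iff F p _).2 (Int.dvd_of_emod_eq_zero h1)

def checkCent (D : ChevalleyDatum) (p θ i₀ : ℕ) (L : List ℕ) : Bool :=
  decide (D.IsPosRoot θ) && decide (i₀ < D.rank) &&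
  ((List.range D.nroots).all fun r => !decide (D.IsPosRoot r) || r == θ ||
      (r != D.neg θ && commZero D p θ r)) &&
  (L.all fun s => decide (s < D.nroots) && s != θ && s != D.neg θ && commZero D p θ s) &&
  (D.reflectRoot i₀ θ != θ) &&
  ((List.range D.rank).all fun i => D.cartan i θ == if i = i₀ then 1 else 0) &&
  ((List.range D.rank).all fun i => i == i₀ || L.contains (D.neg (D.simple i)))

theorem centHyp_of_check (D : ChevalleyDatum) (p : ℕ) [CharP F p] (θ i₀ : ℕ) (L : List ℕ)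
    (h : checkCent D p θ i₀ L = true) : CentHyp D F θ i₀ L := by
  unfold checkCent at h
  simp only [Bool.and_eq_true, decide_eq_true_eq, List.all_eq_true, List.mem_range,
    Bool.or_eq_true, Bool.not_eq_true', decide_eq_false_iff_not, beq_iff_eq, bne_iff_ne, ne_eq,
    List.contains_iff_mem] at h
  obtain ⟨⟨⟨⟨⟨⟨h1, h2⟩, h3⟩, h4⟩, h5⟩, h6⟩, h7⟩ := h
  refine ⟨h1, h2, ?_, ?_, h5, ?_, ?_⟩
  · intro r hr hne
    rcases h3 r hr.1 with (h | h) | h
    · exact absurd hr h
    · exact absurd h hne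
    · exact ⟨h.1, commZero_spec D p θ r h.2⟩
  · intro s hs
    obtain ⟨⟨⟨a, b⟩, c⟩, d⟩ := h4 s hs
    exact ⟨a, b, c, commZero_spec D p θ s d⟩
  · intro i hi
    exact h6 i hi
  · intro i hi hne
    rcases h7 i hi with h | h
    · exact absurd h hne
    · exact h

end Cfsg.Agent.Lib.Helper5.RootCent
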