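import Mathlib
import Cfsg.Prelude.Def_ChevStructure
import Cfsg.Prelude.Def_LieExceptional
import Cfsg.Agent.Lib.Helper5.RootCent.Check
import Cfsg.Agent.Lib.Helper5.ChevUCard

set_option autoImplicit false

/-!
The subgroup generated by two conjugates of the root subgroup of the highest root.
-/

namespace Cfsg.Agent.Lib.Helper5.RootCent

open Cfsg Cfsg.Lie Cfsg.Agent.Lib.Helper5.ChevSym Cfsg.Agent.Lib.Helper5.ChevStruct

variable {F : Type*} [Field F]

/-- the hypotheses on the highest root -/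
structure TopHyp (D : ChevalleyDatum) (F : Type*) [Field F] (θ : ℕ) : Prop where
  pos : D.IsPosRoot θ
  commP : ∀ r, D.IsPosRoot r → r ≠ θ →
    r ≠ D.neg θ ∧ ∀ c ∈ D.commTerms θ r, ((c.2.1 : ℤ) : F) = 0

def checkTop (D : ChevalleyDatum) (p θ : ℕ) : Bool :=
  decide (D.IsPosRoot θ) &&
  ((List.range D.nroots).all fun r => !decide (D.IsPosRoot r) || r == θ ||
      (r != D.neg θ && commZero D p θ r))

theorem topHyp_of_check (D : ChevalleyDatum) (p : ℕ) [CharP F p] (θ : ℕ)
    (h : checkTop D p θ = true) : TopHyp D F θ := by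
  unfold checkTop at h
  simp only [Bool.and_eq_true, decide_eq_true_eq, List.all_eq_true, List.mem_range,
    Bool.or_eq_true, Bool.not_eq_true', decide_eq_false_iff_not, beq_iff_eq, bne_iff_ne,
    ne_eq] at h
  obtain ⟨h1, h3⟩ := h
  refine ⟨h1, ?_⟩
  intro r hr hne
  rcases h3 r hr.1 with (h | h) | h
  · exact absurd hr h
  · exact absurd h hne
  · exact ⟨h.1, commZero_spec D p θ r h.2⟩

/-- the table of words making `θ` and `r` simultaneously positive -/
def checkPairTab (D : ChevalleyDatum) (θ : ℕ) (wt : List (List ℕ)) : Bool :=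
  (List.range D.nroots).all fun r => r == D.neg θ ||
    ((wt.getD r []).all (fun i => decide (i < D.rank)) &&
      decide (D.IsPosRoot (wAct D (wt.getD r []) θ)) &&
      decide (D.IsPosRoot (wAct D (wt.getD r []) r)))

theorem checkPairTab_spec (D : ChevalleyDatum) (θ : ℕ) (wt : List (List ℕ))
    (h : checkPairTab D θ wt = true) (r : ℕ) (hr : r < D.nroots) (hne : r ≠ D.neg θ) :
    ∃ w : List ℕ, (∀ i ∈ w, i < D.rank) ∧ D.IsPosRoot (wAct D w θ) ∧ D.IsPosRoot (wAct D w r) := by
  unfold checkPairTab at h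
  simp only [List.all_eq_true, List.mem_range, Bool.or_eq_true, beq_iff_eq, Bool.and_eq_true,
    decide_eq_true_eq] at h
  rcases h r hr with h | h
  · exact absurd h hne
  · exact ⟨wt.getD r [], h.1.1, h.1.2, h.2⟩

section

variable (D : ChevalleyDatum) (hD : D ∈ Seven) (θ : ℕ) (H : TopHyp D F θ)

include hD

include H in
/-- `U` centralises `X_θ` -/
theorem pos_comm_top (u : GL D.Idx F) (hu : u ∈ D.posUnipotent F) (a : F) :
    Commute u (xGL D hD θ a) := by
  unfold ChevalleyDatum.posUnipotent at hu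
  induction hu using Subgroup.closure_induction with
  | mem y hy =>
    obtain ⟨r, t, hr, hy⟩ := hy
    have : y = xGL D hD r t := Units.ext hy
    rw [this]
    apply Units.ext
    rw [Units.val_mul, Units.val_mul, xGL_val, xGL_val]
    by_cases e : r = θ
    · subst e
      rw [x_add D hD, x_add D hD, add_comm]
    · obtain ⟨h2, h0⟩ := H.commP r hr e
      exact x_comm_of_zero D hD θ r H.pos.1 hr.1 e h2 h0 a t
  | one => exact Commute.one_left _
  | mul x y _ _ hx hy => exact Commute.mul_left hx hy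
  | inv x _ hx => exact Commute.inv_left hx

include H in
theorem borel_le_normTop_top : D.borelSubgroup F ≤ normTop D hD F θ := by
  unfold ChevalleyDatum.borelSubgroup
  apply sup_le
  · intro u hu
    refine ⟨1, one_ne_zero, fun a => ?_⟩
    rw [(pos_comm_top D hD θ H u hu a).eq, mul_inv_cancel_right, one_mul]
  · exact diagonal_le_normTop D hD θ

omit hD in
/-- conjugating twice -/
theorem map_conj_mul {G : Type*} [Group G] (K : Subgroup G) (a b : G) :
    (K.map (MulAut.conj b).toMonoidHom).map (MulAut.conj a).toMonoidHom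
      = K.map (MulAut.conj (a * b)).toMonoidHom := by
  rw [Subgroup.map_map]
  congr 1
  ext x
  simp [mul_assoc]

omit hD in
theorem map_conj_one {G : Type*} [Group G] (K : Subgroup G) :
    K.map (MulAut.conj (1 : G)).toMonoidHom = K := by
  ext x
  simp

/-- elements of `normTop` normalise `X_θ` -/
theorem map_conj_of_normTop (b : GL D.Idx F) (hb : b ∈ normTop D hD F θ) :
    (D.rootSubgroup F θ).map (MulAut.conj b).toMonoidHom = D.rootSubgroup F θ := by
  have key : ∀ b : GL D.Idx F, b ∈ normTop D hD F θ →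
      (D.rootSubgroup F θ).map (MulAut.conj b).toMonoidHom ≤ D.rootSubgroup F θ := by
    intro b hb
    obtain ⟨c, -, hc⟩ := hb
    unfold ChevalleyDatum.rootSubgroup
    rw [MonoidHom.map_closure, Subgroup.closure_le]
    rintro _ ⟨y, ⟨t, hy⟩, rfl⟩
    have ey : y = xGL D hD θ t := Units.ext hy
    apply Subgroup.subset_closure
    refine ⟨c * t, ?_⟩
    show ((b * y * b⁻¹ : GL D.Idx F) : Matrix D.Idx D.Idx F) = _
    rw [ey, hc t, xGL_val]
  apply le_antisymm (key b hb)
  have h2 := Subgroup.map_mono (f := (MulAut.conj b).toMonoidHom) (key b⁻¹ (inv_mem hb))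
  rwa [map_conj_mul, mul_inv_cancel, map_conj_one] at h2

/-- `n_w X_r n_w⁻¹ = X_{w r}` -/
theorem map_conj_wGL (w : List ℕ) (hw : ∀ i ∈ w, i < D.rank) (r : ℕ) (hr : r < D.nroots) :
    (D.rootSubgroup F r).map (MulAut.conj (wGL D hD w : GL D.Idx F)).toMonoidHom
      = D.rootSubgroup F (wAct D w r) := by
  obtain ⟨ε, hε, hconj⟩ := wGL_conj (F := F) D hD w hw r hr
  have hε2 : ε * ε = 1 := by rcases hε with rfl | rfl <;> simp
  unfold ChevalleyDatum.rootSubgroup
  rw [MonoidHom.map_closure]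
  congr 1
  ext g
  constructor
  · rintro ⟨y, ⟨t, hy⟩, rfl⟩
    exact ⟨ε * t, hconj t y hy⟩
  · rintro ⟨t, hg⟩
    refine ⟨xGL D hD r (ε * t), ⟨ε * t, rfl⟩, ?_⟩
    apply Units.ext
    show ((wGL D hD w * xGL D hD r (ε * t) * (wGL D hD w)⁻¹ : GL D.Idx F) :
      Matrix D.Idx D.Idx F) = _
    rw [hconj _ _ (xGL_val D hD r _), hg, ← mul_assoc, hε2, one_mul]

omit hD in
theorem rootSubgroup_le_pos (r : ℕ) (hr : D.IsPosRoot r) :
    D.rootSubgroup F r ≤ D.posUnipotent F := by
  unfold ChevalleyDatum.rootSubgroup ChevalleyDatum.posUnipotent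
  apply Subgroup.closure_mono
  rintro g ⟨t, hg⟩
  exact ⟨r, t, hr, hg⟩

theorem rootSubgroup_le_group (r : ℕ) : D.rootSubgroup F r ≤ D.group F := by
  unfold ChevalleyDatum.rootSubgroup
  rw [Subgroup.closure_le]
  rintro g ⟨t, hg⟩
  have : g = xGL D hD r t := Units.ext hg
  rw [this]
  exact xGL_mem_group D hD r t

/-- `U` is a `p`-group -/
theorem pos_isPGroup [Fintype F] (p : ℕ) [Fact p.Prime] [CharP F p] (u : GL D.Idx F)
    (hu : u ∈ D.posUnipotent F) : ∃ k : ℕ, u ^ p ^ k = 1 := by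
  obtain ⟨n, hp, hq⟩ := FiniteField.card F p
  have hcardU : Nat.card (D.posUnipotent F) = p ^ ((n : ℕ) * (D.nroots / 2)) := by
    rw [card_posUnipotent D hD, hq, ← pow_mul]
  have hP : IsPGroup p (D.posUnipotent F) := IsPGroup.of_card hcardU
  obtain ⟨k, hk⟩ := hP ⟨u, hu⟩
  refine ⟨k, ?_⟩
  have := congrArg Subtype.val hk
  simpa using this

include H in
/-- two conjugates of `X_θ` -/
theorem pair_top [Fintype F] (p : ℕ) [Fact p.Prime] [CharP F p] (wt : List (List ℕ))
    (hwt : checkPairTab D θ wt = true) (g : GL D.Idx F) (hg : g ∈ D.group F) :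
    IsPGroup p ↥(D.rootSubgroup F θ ⊔
        (D.rootSubgroup F θ).map (MulAut.conj g).toMonoidHom) ∨
    ∃ h ∈ D.group F, (D.rootSubgroup F θ ⊔
        (D.rootSubgroup F θ).map (MulAut.conj g).toMonoidHom).map (MulAut.conj h).toMonoidHom
      = D.rootSubgroup F θ ⊔ D.rootSubgroup F (D.neg θ) := by
  obtain ⟨n, hn, hmem⟩ := Cfsg.Agent.S0308.result (chevBNPair D hD F) ⟨g, hg⟩
  rw [DoubleCoset.mem_doubleCoset] at hmem
  obtain ⟨b1, hb1, b2, hb2, e⟩ := hmem
  have hn' : (n : GL D.Idx F) ∈ D.monomialSubgroup F := hn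
  have hb1' : (b1 : GL D.Idx F) ∈ D.borelSubgroup F := hb1
  have hb2' : (b2 : GL D.Idx F) ∈ D.borelSubgroup F := hb2
  have e' : g = (b1 : GL D.Idx F) * (n : GL D.Idx F) * (b2 : GL D.Idx F) :=
    congrArg Subtype.val e
  obtain ⟨w, hw, h', hh', e3⟩ := exists_word_of_mem_monomial D hD _ hn'
  have hB := borel_le_normTop_top D hD θ H
  have h1 := hB hb1'
  have h2 : h' * (b2 : GL D.Idx F) ∈ normTop D hD F θ :=
    mul_mem (hB (diagonal_le_borel D hh')) (hB hb2')
  have eg : g = (b1 : GL D.Idx F) * (wGL D hD w * (h' * (b2 : GL D.Idx F))) := by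
    rw [e', e3]; group
  set r := wAct D w θ with hr
  have hrlt : r < D.nroots := wAct_lt D hD w hw θ H.pos.1
  -- the subgroup is `b₁ ⟨X_θ, X_r⟩ b₁⁻¹`
  have hS : D.rootSubgroup F θ ⊔ (D.rootSubgroup F θ).map (MulAut.conj g).toMonoidHom
      = (D.rootSubgroup F θ ⊔ D.rootSubgroup F r).map
        (MulAut.conj (b1 : GL D.Idx F)).toMonoidHom := by
    rw [Subgroup.map_sup, map_conj_of_normTop D hD θ _ h1, eg, ← map_conj_mul, ← map_conj_mul,
      map_conj_of_normTop D hD θ _ h2, map_conj_wGL D hD w hw θ H.pos.1]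
  by_cases hrn : r = D.neg θ
  · right
    refine ⟨(b1 : GL D.Idx F)⁻¹, inv_mem (borel_le_group D hD hb1'), ?_⟩
    rw [hS, map_conj_mul, inv_mul_cancel, map_conj_one, hrn]
  · left
    obtain ⟨w', hw', hp1, hp2⟩ := checkPairTab_spec D θ wt hwt r hrlt hrn
    -- conjugate into `U`
    have hle : (D.rootSubgroup F θ ⊔ D.rootSubgroup F r).map
        (MulAut.conj (wGL D hD w' : GL D.Idx F)).toMonoidHom ≤ D.posUnipotent F := by
      rw [Subgroup.map_sup, map_conj_wGL D hD w' hw' θ H.pos.1, map_conj_wGL D hD w' hw' r hrlt]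
      exact sup_le (rootSubgroup_le_pos D _ hp1) (rootSubgroup_le_pos D _ hp2)
    rw [hS]
    intro x
    obtain ⟨y, hy, hxy⟩ := x.2
    set c : GL D.Idx F := wGL D hD w' with hc
    have hcy : c * y * c⁻¹ ∈ D.posUnipotent F := hle ⟨y, hy, rfl⟩
    obtain ⟨k, hk⟩ := pos_isPGroup D hD p _ hcy
    refine ⟨k, ?_⟩
    apply Subtype.ext
    rw [Subgroup.coe_pow, Subgroup.coe_one, ← hxy]
    have e1 : (c * y * c⁻¹) ^ p ^ k = c * y ^ p ^ k * c⁻¹ := by
      rw [conj_pow]
    rw [e1] at hk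
    have hyk : y ^ p ^ k = 1 := by
      have := congrArg (fun z => c⁻¹ * z * c) hk
      simpa [mul_assoc] using this
    show ((MulAut.conj (b1 : GL D.Idx F)).toMonoidHom y) ^ p ^ k = 1
    rw [← map_pow, hyk, map_one]

end

end Cfsg.Agent.Lib.Helper5.RootCent
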