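import Mathlib
import Cfsg.Prelude.Def_ChevStructure
import Cfsg.Prelude.Def_LieChev
import Cfsg.Agent.Lib.Helper5.RootCent.Pair

set_option autoImplicit false

/-!
Tables of Weyl group words for `RootCent.pair_top`, and their checks.
-/

namespace Cfsg.Agent.Lib.Helper5.RootCent

open Cfsg Cfsg.Lie Cfsg.Agent.Lib.Helper5.ChevSym Cfsg.Agent.Lib.Helper5.ChevStruct

/-- the table for `G2` -/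
def pairTabG2 : List (List ℕ) :=
  [[], [1, 0], [0, 1, 0], [0, 1], [0], [1], [], [], [], [], [], []]

theorem chkPairTab_G2 : checkPairTab chevG2 11 pairTabG2 = true := by decide +kernel

theorem chkTop_G2 : checkTop chevG2 2 11 = true := by decide +kernel

theorem neg_top_G2 : chevG2.neg 11 = 0 := by decide +kernel

/-- the table for `D4` -/
def pairTabD4 : List (List ℕ) :=
  [[], [3, 1, 2, 0], [2, 1, 0], [3, 1, 0], [1, 0], [0], [3, 1, 2], [2, 1], [3, 1], [1], [2], [3],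
  [], [], [], [], [], [], [], [], [], [], [], []]

theorem chkPairTab_D4 : checkPairTab chevD4 23 pairTabD4 = true := by decide +kernel

theorem chkTop_D4 : checkTop chevD4 2 23 = true := by decide +kernel

theorem neg_top_D4 : chevD4.neg 23 = 0 := by decide +kernel

/-- the table for `E6` -/
def pairTabE6 : List (List ℕ) :=
  [[], [5, 4, 3, 2, 1, 3, 4, 0, 2, 3], [5, 4, 3, 2, 1, 3, 4, 0, 2], [5, 4, 3, 2, 1, 3, 0, 2], [4,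
  3, 2, 1, 3, 0, 2], [5, 4, 3, 2, 1, 3, 4, 0], [5, 4, 3, 2, 1, 3, 0], [4, 3, 2, 1, 3, 0], [5, 4,
  3, 2, 1, 0], [4, 3, 2, 1, 0], [3, 2, 1, 0], [5, 4, 3, 2, 0], [4, 3, 2, 0], [3, 2, 0], [2, 0],
  [0], [5, 4, 3, 2, 1, 3, 4], [5, 4, 3, 2, 1, 3], [4, 3, 2, 1, 3], [5, 4, 3, 2, 1], [4, 3, 2,
  1], [3, 2, 1], [5, 4, 3, 1], [4, 3, 1], [3, 1], [1], [5, 4, 3, 2], [4, 3, 2], [3, 2], [2], [5,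
  4, 3], [4, 3], [3], [5, 4], [4], [5], [], [], [], [], [], [], [], [], [], [], [], [], [], [],
  [], [], [], [], [], [], [], [], [], [], [], [], [], [], [], [], [], [], [], [], [], []]

theorem chkPairTab_E6 : checkPairTab chevE6 71 pairTabE6 = true := by decide +kernel

theorem chkTop_E6 : checkTop chevE6 2 71 = true := by decide +kernel

theorem neg_top_E6 : chevE6.neg 71 = 0 := by decide +kernel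

/-- the table for `E7` -/
def pairTabE7 : List (List ℕ) :=
  [[], [6, 5, 4, 3, 2, 1, 3, 4, 5, 0, 2, 3, 4, 1, 3, 2], [6, 5, 4, 3, 2, 1, 3, 4, 5, 0, 2, 3, 4,
  1, 3], [6, 5, 4, 3, 2, 1, 3, 4, 5, 0, 2, 3, 4, 1], [6, 5, 4, 3, 2, 1, 3, 4, 5, 0, 2, 3, 1],
  [6, 5, 4, 3, 2, 1, 3, 4, 0, 2, 3, 1], [5, 4, 3, 2, 1, 3, 4, 0, 2, 3, 1], [6, 5, 4, 3, 2, 1, 3,
  4, 5, 0, 2, 3, 4], [6, 5, 4, 3, 2, 1, 3, 4, 5, 0, 2, 3], [6, 5, 4, 3, 2, 1, 3, 4, 0, 2, 3],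
  [5, 4, 3, 2, 1, 3, 4, 0, 2, 3], [6, 5, 4, 3, 2, 1, 3, 4, 5, 0, 2], [6, 5, 4, 3, 2, 1, 3, 4, 0,
  2], [5, 4, 3, 2, 1, 3, 4, 0, 2], [6, 5, 4, 3, 2, 1, 3, 0, 2], [5, 4, 3, 2, 1, 3, 0, 2], [4, 3,
  2, 1, 3, 0, 2], [6, 5, 4, 3, 2, 1, 3, 4, 5, 0], [6, 5, 4, 3, 2, 1, 3, 4, 0], [5, 4, 3, 2, 1,
  3, 4, 0], [6, 5, 4, 3, 2, 1, 3, 0], [5, 4, 3, 2, 1, 3, 0], [4, 3, 2, 1, 3, 0], [6, 5, 4, 3, 2,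
  1, 0], [5, 4, 3, 2, 1, 0], [4, 3, 2, 1, 0], [3, 2, 1, 0], [6, 5, 4, 3, 2, 0], [5, 4, 3, 2, 0],
  [4, 3, 2, 0], [3, 2, 0], [2, 0], [0], [6, 5, 4, 3, 2, 1, 3, 4, 5], [6, 5, 4, 3, 2, 1, 3, 4],
  [5, 4, 3, 2, 1, 3, 4], [6, 5, 4, 3, 2, 1, 3], [5, 4, 3, 2, 1, 3], [4, 3, 2, 1, 3], [6, 5, 4,
  3, 2, 1], [5, 4, 3, 2, 1], [4, 3, 2, 1], [3, 2, 1], [6, 5, 4, 3, 1], [5, 4, 3, 1], [4, 3, 1],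
  [3, 1], [1], [6, 5, 4, 3, 2], [5, 4, 3, 2], [4, 3, 2], [3, 2], [2], [6, 5, 4, 3], [5, 4, 3],
  [4, 3], [3], [6, 5, 4], [5, 4], [4], [6, 5], [5], [6], [], [], [], [], [], [], [], [], [], [],
  [], [], [], [], [], [], [], [], [], [], [], [], [], [], [], [], [], [], [], [], [], [], [],
  [], [], [], [], [], [], [], [], [], [], [], [], [], [], [], [], [], [], [], [], [], [], [],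
  [], [], [], [], [], [], []]

theorem chkPairTab_E7 : checkPairTab chevE7 125 pairTabE7 = true := by decide +kernel

theorem chkTop_E7 : checkTop chevE7 2 125 = true := by decide +kernel

theorem neg_top_E7 : chevE7.neg 125 = 0 := by decide +kernel

/-- the table for `E8` -/
def pairTabE8 : List (List ℕ) :=
  [[], [7, 6, 5, 4, 3, 2, 1, 3, 4, 5, 6, 0, 2, 3, 4, 5, 1, 3, 4, 2, 3, 0, 2, 1, 3, 4, 5, 6], [7,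
  6, 5, 4, 3, 2, 1, 3, 4, 5, 6, 0, 2, 3, 4, 5, 1, 3, 4, 2, 3, 0, 2, 1, 3, 4, 5], [7, 6, 5, 4, 3,
  2, 1, 3, 4, 5, 6, 0, 2, 3, 4, 5, 1, 3, 4, 2, 3, 0, 2, 1, 3, 4], [7, 6, 5, 4, 3, 2, 1, 3, 4, 5,
  6, 0, 2, 3, 4, 5, 1, 3, 4, 2, 3, 0, 2, 1, 3], [7, 6, 5, 4, 3, 2, 1, 3, 4, 5, 6, 0, 2, 3, 4, 5,
  1, 3, 4, 2, 3, 0, 2, 1], [7, 6, 5, 4, 3, 2, 1, 3, 4, 5, 6, 0, 2, 3, 4, 5, 1, 3, 4, 2, 3, 1,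
  0], [7, 6, 5, 4, 3, 2, 1, 3, 4, 5, 6, 0, 2, 3, 4, 5, 1, 3, 4, 2, 3, 0, 2], [7, 6, 5, 4, 3, 2,
  1, 3, 4, 5, 6, 0, 2, 3, 4, 5, 1, 3, 4, 2, 3, 0], [7, 6, 5, 4, 3, 2, 1, 3, 4, 5, 6, 0, 2, 3, 4,
  5, 1, 3, 4, 2, 0], [7, 6, 5, 4, 3, 2, 1, 3, 4, 5, 6, 0, 2, 3, 4, 5, 1, 3, 2, 0], [7, 6, 5, 4,
  3, 2, 1, 3, 4, 5, 6, 0, 2, 3, 4, 1, 3, 2, 0], [7, 6, 5, 4, 3, 2, 1, 3, 4, 5, 0, 2, 3, 4, 1, 3,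
  2, 0], [6, 5, 4, 3, 2, 1, 3, 4, 5, 0, 2, 3, 4, 1, 3, 2, 0], [7, 6, 5, 4, 3, 2, 1, 3, 4, 5, 6,
  0, 2, 3, 4, 5, 1, 3, 4, 2, 3, 1], [7, 6, 5, 4, 3, 2, 1, 3, 4, 5, 6, 0, 2, 3, 4, 5, 1, 3, 4, 2,
  3], [7, 6, 5, 4, 3, 2, 1, 3, 4, 5, 6, 0, 2, 3, 4, 5, 1, 3, 4, 2], [7, 6, 5, 4, 3, 2, 1, 3, 4,
  5, 6, 0, 2, 3, 4, 5, 1, 3, 2], [7, 6, 5, 4, 3, 2, 1, 3, 4, 5, 6, 0, 2, 3, 4, 1, 3, 2], [7, 6,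
  5, 4, 3, 2, 1, 3, 4, 5, 0, 2, 3, 4, 1, 3, 2], [6, 5, 4, 3, 2, 1, 3, 4, 5, 0, 2, 3, 4, 1, 3,
  2], [7, 6, 5, 4, 3, 2, 1, 3, 4, 5, 6, 0, 2, 3, 4, 5, 1, 3, 4], [7, 6, 5, 4, 3, 2, 1, 3, 4, 5,
  6, 0, 2, 3, 4, 5, 1, 3], [7, 6, 5, 4, 3, 2, 1, 3, 4, 5, 6, 0, 2, 3, 4, 1, 3], [7, 6, 5, 4, 3,
  2, 1, 3, 4, 5, 0, 2, 3, 4, 1, 3], [6, 5, 4, 3, 2, 1, 3, 4, 5, 0, 2, 3, 4, 1, 3], [7, 6, 5, 4,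
  3, 2, 1, 3, 4, 5, 6, 0, 2, 3, 4, 5, 1], [7, 6, 5, 4, 3, 2, 1, 3, 4, 5, 6, 0, 2, 3, 4, 1], [7,
  6, 5, 4, 3, 2, 1, 3, 4, 5, 0, 2, 3, 4, 1], [6, 5, 4, 3, 2, 1, 3, 4, 5, 0, 2, 3, 4, 1], [7, 6,
  5, 4, 3, 2, 1, 3, 4, 5, 6, 0, 2, 3, 1], [7, 6, 5, 4, 3, 2, 1, 3, 4, 5, 0, 2, 3, 1], [6, 5, 4,
  3, 2, 1, 3, 4, 5, 0, 2, 3, 1], [7, 6, 5, 4, 3, 2, 1, 3, 4, 0, 2, 3, 1], [6, 5, 4, 3, 2, 1, 3,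
  4, 0, 2, 3, 1], [5, 4, 3, 2, 1, 3, 4, 0, 2, 3, 1], [7, 6, 5, 4, 3, 2, 1, 3, 4, 5, 6, 0, 2, 3,
  4, 5], [7, 6, 5, 4, 3, 2, 1, 3, 4, 5, 6, 0, 2, 3, 4], [7, 6, 5, 4, 3, 2, 1, 3, 4, 5, 0, 2, 3,
  4], [6, 5, 4, 3, 2, 1, 3, 4, 5, 0, 2, 3, 4], [7, 6, 5, 4, 3, 2, 1, 3, 4, 5, 6, 0, 2, 3], [7,
  6, 5, 4, 3, 2, 1, 3, 4, 5, 0, 2, 3], [6, 5, 4, 3, 2, 1, 3, 4, 5, 0, 2, 3], [7, 6, 5, 4, 3, 2,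
  1, 3, 4, 0, 2, 3], [6, 5, 4, 3, 2, 1, 3, 4, 0, 2, 3], [5, 4, 3, 2, 1, 3, 4, 0, 2, 3], [7, 6,
  5, 4, 3, 2, 1, 3, 4, 5, 6, 0, 2], [7, 6, 5, 4, 3, 2, 1, 3, 4, 5, 0, 2], [6, 5, 4, 3, 2, 1, 3,
  4, 5, 0, 2], [7, 6, 5, 4, 3, 2, 1, 3, 4, 0, 2], [6, 5, 4, 3, 2, 1, 3, 4, 0, 2], [5, 4, 3, 2,
  1, 3, 4, 0, 2], [7, 6, 5, 4, 3, 2, 1, 3, 0, 2], [6, 5, 4, 3, 2, 1, 3, 0, 2], [5, 4, 3, 2, 1,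
  3, 0, 2], [4, 3, 2, 1, 3, 0, 2], [7, 6, 5, 4, 3, 2, 1, 3, 4, 5, 6, 0], [7, 6, 5, 4, 3, 2, 1,
  3, 4, 5, 0], [6, 5, 4, 3, 2, 1, 3, 4, 5, 0], [7, 6, 5, 4, 3, 2, 1, 3, 4, 0], [6, 5, 4, 3, 2,
  1, 3, 4, 0], [5, 4, 3, 2, 1, 3, 4, 0], [7, 6, 5, 4, 3, 2, 1, 3, 0], [6, 5, 4, 3, 2, 1, 3, 0],
  [5, 4, 3, 2, 1, 3, 0], [4, 3, 2, 1, 3, 0], [7, 6, 5, 4, 3, 2, 1, 0], [6, 5, 4, 3, 2, 1, 0],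
  [5, 4, 3, 2, 1, 0], [4, 3, 2, 1, 0], [3, 2, 1, 0], [7, 6, 5, 4, 3, 2, 0], [6, 5, 4, 3, 2, 0],
  [5, 4, 3, 2, 0], [4, 3, 2, 0], [3, 2, 0], [2, 0], [0], [7, 6, 5, 4, 3, 2, 1, 3, 4, 5, 6], [7,
  6, 5, 4, 3, 2, 1, 3, 4, 5], [6, 5, 4, 3, 2, 1, 3, 4, 5], [7, 6, 5, 4, 3, 2, 1, 3, 4], [6, 5,
  4, 3, 2, 1, 3, 4], [5, 4, 3, 2, 1, 3, 4], [7, 6, 5, 4, 3, 2, 1, 3], [6, 5, 4, 3, 2, 1, 3], [5,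
  4, 3, 2, 1, 3], [4, 3, 2, 1, 3], [7, 6, 5, 4, 3, 2, 1], [6, 5, 4, 3, 2, 1], [5, 4, 3, 2, 1],
  [4, 3, 2, 1], [3, 2, 1], [7, 6, 5, 4, 3, 1], [6, 5, 4, 3, 1], [5, 4, 3, 1], [4, 3, 1], [3, 1],
  [1], [7, 6, 5, 4, 3, 2], [6, 5, 4, 3, 2], [5, 4, 3, 2], [4, 3, 2], [3, 2], [2], [7, 6, 5, 4,
  3], [6, 5, 4, 3], [5, 4, 3], [4, 3], [3], [7, 6, 5, 4], [6, 5, 4], [5, 4], [4], [7, 6, 5], [6,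
  5], [5], [7, 6], [6], [7], [], [], [], [], [], [], [], [], [], [], [], [], [], [], [], [], [],
  [], [], [], [], [], [], [], [], [], [], [], [], [], [], [], [], [], [], [], [], [], [], [],
  [], [], [], [], [], [], [], [], [], [], [], [], [], [], [], [], [], [], [], [], [], [], [],
  [], [], [], [], [], [], [], [], [], [], [], [], [], [], [], [], [], [], [], [], [], [], [],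
  [], [], [], [], [], [], [], [], [], [], [], [], [], [], [], [], [], [], [], [], [], [], [],
  [], [], [], [], [], [], [], [], [], [], []]

theorem chkPairTab_E8 : checkPairTab chevE8 239 pairTabE8 = true := by decide +kernel

theorem chkTop_E8 : checkTop chevE8 2 239 = true := by decide +kernel

theorem neg_top_E8 : chevE8.neg 239 = 0 := by decide +kernel

end Cfsg.Agent.Lib.Helper5.RootCent
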